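import Cfsg.Agent.Lib.FailFact.Transvection
import Cfsg.Agent.Lib.HallHigman.Descend
import Cfsg.Agent.Lib.Solvable.CoprimeGeneration
import Cfsg.Agent.Lib.Solvable.Core
import Cfsg.Agent.Lib.PLocal.GlaubermanReplacement

/-!
An abelian best offender in a solvable linear group over `𝔽₂` with trivial `2`-core is generated by
transvections.
-/

set_option autoImplicit false
set_option linter.style.haveILetI false

namespace CfsgLib.FailFact

open CfsgLib.HallHigman (stab subRep subRep_apply)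
open scoped commutatorElement

variable {X : Type*} [Group X] {V : Type*} [AddCommGroup V] [Module (ZMod 2) V]

theorem IsTv.inv {ρ : Representation (ZMod 2) X V} {d : X} (h : IsTv ρ d) : IsTv ρ d⁻¹ := by
  obtain ⟨h1, v, hv⟩ := h
  have e : ρ d⁻¹ = ρ d := LinearMap.ext fun z => by
    conv_lhs => rw [← apply_apply_self ρ hv z, apply_inv_apply]
  exact ⟨e ▸ h1, v, fun z => e ▸ hv z⟩

theorem IsTv.conj {ρ : Representation (ZMod 2) X V} {d : X} (h : IsTv ρ d) (g : X) :
    IsTv ρ (g * d * g⁻¹) := by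
  obtain ⟨h1, v, hv⟩ := h
  refine ⟨fun hc => h1 (LinearMap.ext fun z => ?_), ρ g v, fun z => ?_⟩
  · have := LinearMap.congr_fun hc (ρ g z)
    rw [apply_mul_apply, apply_mul_apply, apply_inv_apply, Module.End.one_apply] at this
    exact apply_injective ρ g this
  · rw [apply_mul_apply, apply_mul_apply]
    rcases hv (ρ g⁻¹ z) with h2 | h2
    · exact Or.inl (by rw [h2, apply_self_inv])
    · exact Or.inr (by rw [h2, map_add, apply_self_inv])

theorem card_eq_two_pow [Finite V] (U : Submodule (ZMod 2) V) :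
    Nat.card U = 2 ^ Module.finrank (ZMod 2) U := by
  rw [Module.natCard_eq_pow_finrank (K := ZMod 2), Nat.card_zmod]

variable (ρ : Representation (ZMod 2) X V)

/-- The fixed space of a subgroup. -/
def fixSub (B : Subgroup X) : Submodule (ZMod 2) V where
  carrier := {z | ∀ b ∈ B, ρ b z = z}
  add_mem' := fun ha hb b h => by rw [map_add, ha b h, hb b h]
  zero_mem' := fun b _ => map_zero _
  smul_mem' := fun c z hz b h => by rw [map_smul, hz b h]

theorem fixSub_anti {B C : Subgroup X} (h : B ≤ C) : fixSub ρ C ≤ fixSub ρ B := fun _ hz b hb => hz b (h hb)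

theorem inf_fixSub_le (B C : Subgroup X) : fixSub ρ B ⊓ fixSub ρ C ≤ fixSub ρ (B ⊔ C) := by
  rintro z ⟨h1, h2⟩ b hb
  rw [Subgroup.sup_eq_closure] at hb
  induction hb using Subgroup.closure_induction with
  | mem a ha => exact ha.elim (h1 a) (h2 a)
  | mul a c _ _ iha ihc => rw [apply_mul_apply, ihc, iha]
  | one => rw [map_one]; rfl
  | inv a _ ih => conv_lhs => rw [← ih, apply_inv_apply]

theorem zmod_two_cases : ∀ c : ZMod 2, c = 0 ∨ c = 1 := by decide

/-- The measure of a subgroup. -/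
noncomputable def meas (B : Subgroup X) : ℕ := Nat.card B * Nat.card (fixSub ρ B)

variable [Finite X] [Finite V]

theorem fitting_odd (hO2 : Cfsg.pCore 2 X = ⊥) : Odd (Nat.card (Cfsg.fittingSubgroup X)) := by
  haveI := CfsgLib.Solvable.fittingSubgroup_normal X
  haveI := CfsgLib.Solvable.fittingSubgroup_isNilpotent X
  haveI := Fact.mk Nat.prime_two
  rw [Nat.odd_iff, ← Nat.two_dvd_ne_zero]
  intro h
  obtain ⟨g, hg⟩ := exists_prime_orderOf_dvd_card' (G := Cfsg.fittingSubgroup X) 2 h
  obtain ⟨P⟩ := (inferInstance : Nonempty (Sylow 2 (Cfsg.fittingSubgroup X)))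
  haveI : (P : Subgroup (Cfsg.fittingSubgroup X)).Characteristic := P.characteristic_of_normal inferInstance
  haveI := CfsgLib.Solvable.normal_map_subtype_of_characteristic (Cfsg.fittingSubgroup X) (P : Subgroup _)
  have h1 := CfsgLib.Solvable.le_pCore this (P.2.map _)
  rw [hO2, le_bot_iff, Subgroup.map_eq_bot_iff_of_injective _ Subtype.coe_injective] at h1
  exact P.ne_bot_of_dvd_card h h1

/-- Elements of `3`-power order of a nilpotent subgroup generate a `3`-group. -/
theorem isPGroup_closure_pair {F : Subgroup X} [Group.IsNilpotent F] {x y : X} (hx : x ∈ F) (hy : y ∈ F)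
    (hx3 : x ^ 3 = 1) (hy3 : y ^ 3 = 1) : IsPGroup 3 (Subgroup.closure ({x, y} : Set X)) := by
  haveI := Fact.mk Nat.prime_three
  obtain ⟨P⟩ := (inferInstance : Nonempty (Sylow 3 F))
  have hmem : ∀ z : F, z ^ 3 = 1 → z ∈ (P : Subgroup F) := by
    intro z hz
    have hp : IsPGroup 3 (Subgroup.zpowers z) := by
      intro g
      obtain ⟨k, hk⟩ := Subgroup.mem_zpowers_iff.1 g.2
      refine ⟨1, Subtype.ext ?_⟩
      rw [Subgroup.coe_pow, ← hk, OneMemClass.coe_one, pow_one, ← zpow_natCast, ← zpow_mul, mul_comm, zpow_mul,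
        zpow_natCast, hz, one_zpow]
    obtain ⟨Q, hQ⟩ := hp.exists_le_sylow
    obtain ⟨g, hg⟩ := MulAction.exists_smul_eq F Q P
    rw [Sylow.smul_eq_of_normal] at hg
    exact hg ▸ hQ (Subgroup.mem_zpowers z)
  refine (P.2.map F.subtype).to_le ?_
  rw [Subgroup.closure_le]
  rintro z (rfl | rfl)
  · exact ⟨⟨_, hx⟩, hmem _ (Subtype.ext hx3), rfl⟩
  · exact ⟨⟨_, hy⟩, hmem _ (Subtype.ext hy3), rfl⟩

/-- A linear form of Thompson's lemma. -/
theorem eq_one_on_all {B : Subgroup X} (hB : IsPGroup 2 B) {k : X} (hk : Odd (orderOf k))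
    (hc : ∀ b ∈ B, b * k = k * b) (hfix : ∀ z ∈ fixSub ρ B, ρ k z = z) : ρ k = 1 := by
  haveI := Fact.mk Nat.prime_two
  set R := LinearMap.range (ρ k - 1) with hR
  by_contra hne
  have hRne : R ≠ ⊥ := fun h => hne (sub_eq_zero.1 (LinearMap.range_eq_bot.1 h))
  have hinv : ∀ b ∈ B, ∀ r ∈ R, ρ b r ∈ R := by
    rintro b hb _ ⟨z, rfl⟩
    refine ⟨ρ b z, ?_⟩
    show ρ k (ρ b z) - ρ b z = ρ b (ρ k z - z)
    rw [map_sub, ← apply_mul_apply, ← apply_mul_apply, hc b hb]
  letI : MulAction B R :=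
    { smul := fun b r => ⟨ρ (b : X) (r : V), hinv b b.2 r r.2⟩
      one_smul := fun r => Subtype.ext (show ρ ((1 : B) : X) (r : V) = r by rw [OneMemClass.coe_one, map_one]; rfl)
      mul_smul := fun a b r => Subtype.ext (show ρ ((a * b : B) : X) (r : V) = ρ (a : X) (ρ (b : X) (r : V)) by
        rw [Subgroup.coe_mul, apply_mul_apply]) }
  have h2 : 2 ∣ Nat.card R := by
    rw [card_eq_two_pow]
    exact dvd_pow_self 2 fun h => hRne (Submodule.finrank_eq_zero.1 h)
  obtain ⟨r, hr, hr0⟩ := hB.exists_fixed_point_of_prime_dvd_card_of_fixed_point R h2 (a := 0)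
    fun b => Subtype.ext (map_zero (ρ (b : X)))
  have hrk : ρ k (r : V) = r := hfix r fun b hb => congrArg Subtype.val (hr ⟨b, hb⟩)
  obtain ⟨z, hz⟩ := r.2
  have hz' : ρ k z = z + r := by
    have : ρ k z - z = r := hz
    rw [← this]; abel
  have hi : ∀ i : ℕ, ρ (k ^ i) z = z + i • (r : V) := by
    intro i
    induction i with
    | zero => simp
    | succ i ih => rw [pow_succ', apply_mul_apply, ih, map_add, map_nsmul, hz', hrk, add_assoc, succ_nsmul']
  obtain ⟨j, hj⟩ := hk
  have h1 := hi (orderOf k)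
  rw [pow_orderOf_eq_one, map_one, Module.End.one_apply, hj, add_nsmul, mul_nsmul', two_nsmul,
    add_self_eq_zero', zero_add, one_nsmul, left_eq_add] at h1
  exact hr0 (Subtype.ext h1.symm)

/-- The step for a subgroup with cyclic quotient. -/
theorem index_two_of_cyclic [Group.IsSolvable X] (hρ : Function.Injective ρ) (hO2 : Cfsg.pCore 2 X = ⊥)
    {A : Subgroup X} (hA : IsPGroup 2 A) (hAc : ∀ a ∈ A, ∀ b ∈ A, a * b = b * a)
    (hbest : ∀ B ≤ A, meas ρ B ≤ meas ρ A) {B : Subgroup X} (hBA : B ≤ A) {a : X} (ha : a ∈ A)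
    (hAB : A ≤ B ⊔ Subgroup.zpowers a)
    (hne : ¬ A ≤ Subgroup.centralizer ((Cfsg.fittingSubgroup X ⊓ Subgroup.centralizer (B : Set X) : Subgroup X) : Set X)) :
    let B' := A ⊓ Subgroup.centralizer
      ((Cfsg.fittingSubgroup X ⊓ Subgroup.centralizer (B : Set X) : Subgroup X) : Set X)
    Nat.card A = 2 * Nat.card B' ∧ meas ρ B' = meas ρ A := by
  classical
  intro B'
  haveI hFn := CfsgLib.Solvable.fittingSubgroup_normal X
  haveI := CfsgLib.Solvable.fittingSubgroup_isNilpotent X
  set F := Cfsg.fittingSubgroup X with hF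
  set K := F ⊓ Subgroup.centralizer (B : Set X) with hK
  have hKodd : ∀ k ∈ K, Odd (orderOf k) := fun k hk =>
    (fitting_odd hO2).of_dvd_nat (Subgroup.orderOf_mk k hk.1 ▸ orderOf_dvd_natCard _)
  have hconjK : ∀ c ∈ A, ∀ k ∈ K, c * k * c⁻¹ ∈ K := by
    intro c hc k hk
    refine ⟨hFn.conj_mem k hk.1 c, Subgroup.mem_centralizer_iff.2 fun b hb => ?_⟩
    have h1 : b * c = c * b := hAc b (hBA hb) c hc
    have h2 : b * k = k * b := Subgroup.mem_centralizer_iff.1 hk.2 b hb
    have h3 : b * c⁻¹ = c⁻¹ * b := hAc b (hBA hb) c⁻¹ (A.inv_mem hc)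
    calc b * (c * k * c⁻¹) = (b * c) * k * c⁻¹ := by group
      _ = c * (b * k) * c⁻¹ := by rw [h1]; group
      _ = c * k * (b * c⁻¹) := by rw [h2]; group
      _ = c * k * c⁻¹ * b := by rw [h3]; group
  have hB'A : B' ≤ A := inf_le_left
  have hBB' : B ≤ B' := le_inf hBA (Subgroup.le_centralizer_iff.1 inf_le_right)
  set U := fixSub ρ B' with hU
  have hKB' : ∀ k ∈ K, ∀ b ∈ B', b * k = k * b := fun k hk b hb =>
    (Subgroup.mem_centralizer_iff.1 hb.2 k hk).symm
  have hAstab : A ≤ stab ρ U := fun c hc u hu b hb => by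
    rw [← apply_mul_apply, hAc b (hB'A hb) c hc, apply_mul_apply, hu b hb]
  have hKstab : K ≤ stab ρ U := fun k hk u hu b hb => by
    rw [← apply_mul_apply, hKB' k hk b hb, apply_mul_apply, hu b hb]
  set f := subRep ρ U with hf
  have hfaith : ∀ (k : X) (hk : k ∈ K), f ⟨k, hKstab hk⟩ = 1 → k = 1 := by
    intro k hk h
    apply hρ
    rw [map_one]
    refine eq_one_on_all ρ (hA.to_le hB'A) (hKodd k hk) (hKB' k hk) fun z hz => ?_
    exact congrArg Subtype.val (LinearMap.congr_fun h ⟨z, hz⟩)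
  have hcent : ∀ (c : X) (hc : c ∈ A), f ⟨c, hAstab hc⟩ = 1 → c ∈ B' := by
    intro c hc h
    refine ⟨hc, Subgroup.mem_centralizer_iff.2 fun k hk => ?_⟩
    have hmem : c * k * c⁻¹ * k⁻¹ ∈ K := K.mul_mem (hconjK c hc k hk) (K.inv_mem hk)
    have h1 := hfaith _ hmem (by
      have e : (⟨c * k * c⁻¹ * k⁻¹, hKstab hmem⟩ : stab ρ U) =
          ⟨c, hAstab hc⟩ * ⟨k, hKstab hk⟩ * (⟨c, hAstab hc⟩)⁻¹ * (⟨k, hKstab hk⟩)⁻¹ := Subtype.ext rfl
      rw [e, map_mul, map_mul, map_mul, h, one_mul]
      have h' : f (⟨c, hAstab hc⟩)⁻¹ = 1 := by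
        have := (map_mul f ⟨c, hAstab hc⟩ (⟨c, hAstab hc⟩)⁻¹).symm
        rwa [mul_inv_cancel, map_one, h, one_mul] at this
      rw [h', mul_one, ← map_mul, mul_inv_cancel, map_one])
    rw [mul_inv_eq_one, mul_inv_eq_iff_eq_mul] at h1
    exact h1.symm
  have haB' : a ∉ B' := fun h => hne (hAB.trans (sup_le (hBB'.trans inf_le_right)
    (Subgroup.zpowers_le.2 h.2)))
  -- the order of `a` modulo `B'`
  obtain ⟨j, hj⟩ := hA ⟨a, ha⟩
  have hex : ∃ e, a ^ 2 ^ e ∈ B' := ⟨j, by
    rw [show a ^ 2 ^ j = 1 from congrArg Subtype.val hj]; exact B'.one_mem⟩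
  set e := Nat.find hex with he
  have hea : a ^ 2 ^ e ∈ B' := Nat.find_spec hex
  obtain ⟨e', hee⟩ : ∃ e', e = e' + 1 := Nat.exists_eq_succ_of_ne_zero fun h => haB' (by
    have := hea
    rwa [h, pow_zero, pow_one] at this)
  have hea' : a ^ 2 ^ e' ∉ B' := Nat.find_min hex (show e' < e by omega)
  have hcardA : Nat.card A ≤ 2 ^ e * Nat.card B' := by
    have hnorm : Subgroup.zpowers a ≤ Subgroup.normalizer (B' : Set X) := Subgroup.le_normalizer_iff.2
      fun g hg b hb => by
        rw [hAc g (Subgroup.zpowers_le.2 ha hg) b (hB'A hb), mul_inv_cancel_right]; exact hb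
    have h1 := CfsgLib.PLoc.card_sup_mul_card_inf hnorm
    have h2 : Nat.card A ≤ Nat.card ↥(Subgroup.zpowers a ⊔ B') :=
      Subgroup.card_le_of_le (hAB.trans (sup_le (hBB'.trans le_sup_right) le_sup_left))
    have h3 : Nat.card (Subgroup.zpowers (a ^ 2 ^ e)) ≤ Nat.card ↥(Subgroup.zpowers a ⊓ B') :=
      Subgroup.card_le_of_le (le_inf (Subgroup.zpowers_le.2 (Subgroup.pow_mem _ (Subgroup.mem_zpowers a) _))
        (Subgroup.zpowers_le.2 hea))
    rw [Nat.card_zpowers] at h1 h3
    have h4 : orderOf a ≤ 2 ^ e * orderOf (a ^ 2 ^ e) := Nat.le_of_dvd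
      (Nat.mul_pos (pow_pos (by norm_num) _) (orderOf_pos _))
      (orderOf_dvd_of_pow_eq_one (by rw [pow_mul, pow_orderOf_eq_one]))
    refine Nat.le_of_mul_le_mul_right ?_ (orderOf_pos (a ^ 2 ^ e))
    calc Nat.card A * orderOf (a ^ 2 ^ e)
        ≤ Nat.card ↥(Subgroup.zpowers a ⊔ B') * Nat.card ↥(Subgroup.zpowers a ⊓ B') := Nat.mul_le_mul h2 h3
      _ = orderOf a * Nat.card B' := h1
      _ ≤ 2 ^ e * orderOf (a ^ 2 ^ e) * Nat.card B' := Nat.mul_le_mul_right _ h4
      _ = 2 ^ e * Nat.card B' * orderOf (a ^ 2 ^ e) := by ring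
  -- the image of `a - 1` on `U`
  set a' : stab ρ U := ⟨a, hAstab ha⟩ with ha'
  set N : Module.End (ZMod 2) U := f a' + 1 with hN
  have h2Y : ∀ Y : Module.End (ZMod 2) U, Y + Y = 0 := fun Y => LinearMap.ext fun z => ZModModule.add_self (Y z)
  have hNpow : ∀ i, N ^ 2 ^ i = f (a' ^ 2 ^ i) + 1 := by
    intro i
    induction i with
    | zero => simp [hN]
    | succ i ih =>
      rw [pow_succ 2 i, pow_mul, ih, pow_two, pow_mul a', pow_two (a' ^ 2 ^ i), map_mul, add_mul, mul_add,
        mul_add, one_mul, one_mul, mul_one, add_assoc, ← add_assoc (f (a' ^ 2 ^ i)) _ 1, h2Y, zero_add]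
  have hfone : ∀ g : stab ρ U, f g + 1 = 0 → f g = 1 := fun g h => by
    rw [← add_zero (f g), ← h2Y 1, ← add_assoc, h, zero_add]
  have hNne : N ^ 2 ^ e' ≠ 0 := fun h => hea' (hcent _ (A.pow_mem ha _) (by
    rw [hNpow] at h
    exact hfone _ h))
  have hN0 : N ^ 2 ^ e = 0 := by
    rw [hNpow, show f (a' ^ 2 ^ e) = 1 from LinearMap.ext fun u => Subtype.ext (by
      rw [subRep_apply, Subgroup.coe_pow]; exact u.2 _ hea), h2Y]
  let r : ℕ → ℕ := fun i => Module.finrank (ZMod 2) (LinearMap.range (N ^ i))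
  have hrdec : ∀ i, N ^ i ≠ 0 → r (i + 1) < r i := by
    intro i hi
    refine Submodule.finrank_lt_finrank_of_lt (lt_of_le_of_ne ?_ ?_)
    · rw [pow_succ]; exact LinearMap.range_comp_le_range _ _
    · intro heq
      apply hi
      have hst : ∀ k, LinearMap.range (N ^ (i + k)) = LinearMap.range (N ^ i) := by
        intro k
        induction k with
        | zero => rfl
        | succ k ih =>
          rw [← add_assoc, pow_succ', Module.End.mul_eq_comp, LinearMap.range_comp, ih, ← LinearMap.range_comp,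
            ← Module.End.mul_eq_comp, ← pow_succ', heq]
      have := hst (2 ^ e)
      rw [pow_add, hN0, mul_zero, LinearMap.range_zero] at this
      exact LinearMap.range_eq_bot.1 this.symm
  have hr1 : ∀ i, N ^ i ≠ 0 → ∀ k, k ≤ i → 1 + (i - k) ≤ r k := by
    intro i hi k hk
    induction hik : i - k generalizing k with
    | zero =>
      rw [show k = i by omega]
      have : r i ≠ 0 := fun h => hi (LinearMap.range_eq_bot.1 (Submodule.finrank_eq_zero.1 h))
      omega
    | succ n ih =>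
      have h1 := ih (k + 1) (by omega) (by omega)
      have h2 := hrdec k fun h => hi (by rw [← Nat.add_sub_cancel' hk, pow_add, h, zero_mul])
      omega
  -- comparison of the measures
  have hfixA : ∀ u : U, f a' u = u → (u : V) ∈ fixSub ρ A := by
    intro u hu c hc
    have hz : (u : V) ∈ fixSub ρ (Subgroup.zpowers a) := by
      intro g hg
      obtain ⟨k, rfl⟩ := mem_powers_iff_mem_zpowers.2 hg
      show ρ (a ^ k) (u : V) = u
      induction k with
      | zero => simp
      | succ k ih => rw [pow_succ, apply_mul_apply, show ρ a (u : V) = u from congrArg Subtype.val hu, ih (Subgroup.pow_mem _ (Subgroup.mem_zpowers a) k)]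
    exact inf_fixSub_le ρ B (Subgroup.zpowers a) ⟨fixSub_anti ρ hBB' u.2, hz⟩ c (hAB hc)
  have hker : Nat.card (LinearMap.ker N) = Nat.card (fixSub ρ A) := by
    refine Nat.card_congr
      { toFun := fun u => ⟨((u : U) : V), hfixA _ ?_⟩
        invFun := fun z => ⟨⟨(z : V), fixSub_anti ρ hB'A z.2⟩, ?_⟩
        left_inv := fun u => rfl
        right_inv := fun z => rfl }
    · have h : f a' (u : U) + (u : U) = 0 := u.2
      rw [← add_zero (f a' (u : U)), ← ZModModule.add_self (u : U), ← add_assoc, h, zero_add]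
    · rw [LinearMap.mem_ker]
      show f a' _ + _ = 0
      rw [show f a' ⟨(z : V), fixSub_anti ρ hB'A z.2⟩ = ⟨(z : V), fixSub_anti ρ hB'A z.2⟩ from
        Subtype.ext (z.2 a ha), Module.End.one_apply, ZModModule.add_self]
  have hcardU : Nat.card U = 2 ^ r 1 * Nat.card (fixSub ρ A) := by
    rw [card_eq_two_pow, ← hker, Module.natCard_eq_pow_finrank (K := ZMod 2) (V := LinearMap.ker N),
      Nat.card_zmod, ← pow_add]
    congr 1
    show _ = Module.finrank (ZMod 2) (LinearMap.range (N ^ 1)) + _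
    rw [pow_one, LinearMap.finrank_range_add_finrank_ker]
  have hMle : meas ρ A ≤ 2 ^ e * Nat.card B' * Nat.card (fixSub ρ A) := Nat.mul_le_mul_right _ hcardA
  have hr1e : r 1 ≤ e := by
    have h1 : Nat.card B' * (2 ^ r 1 * Nat.card (fixSub ρ A)) ≤ 2 ^ e * Nat.card B' * Nat.card (fixSub ρ A) :=
      hcardU ▸ (hbest B' hB'A).trans hMle
    have h2 : 2 ^ r 1 ≤ 2 ^ e := by
      refine Nat.le_of_mul_le_mul_right (c := Nat.card B' * Nat.card (fixSub ρ A)) ?_
        (Nat.mul_pos Nat.card_pos Nat.card_pos)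
      calc 2 ^ r 1 * (Nat.card B' * Nat.card (fixSub ρ A)) = Nat.card B' * (2 ^ r 1 * Nat.card (fixSub ρ A)) := by ring
        _ ≤ 2 ^ e * Nat.card B' * Nat.card (fixSub ρ A) := h1
        _ = 2 ^ e * (Nat.card B' * Nat.card (fixSub ρ A)) := by ring
    exact (Nat.pow_le_pow_iff_right (by norm_num)).1 h2
  have hpos : 2 ^ e' ≤ r 1 := by
    have h := hr1 _ hNne 1 (Nat.one_le_two_pow)
    have := Nat.one_le_two_pow (n := e')
    omega
  have he1 : e' ≤ 1 := by
    by_contra hcon
    have h : e' + 1 < 2 ^ e' := by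
      obtain ⟨n, rfl⟩ : ∃ n, e' = n + 2 := ⟨e' - 2, by omega⟩
      have h1 := n.lt_two_pow_self
      rw [pow_add]
      norm_num
      omega
    omega
  have he0 : e' = 0 := by
    by_contra hne0
    have he'1 : e' = 1 := by omega
    -- `t = a ^ 2` is a transvection on `U`
    set t : stab ρ U := a' ^ 2 with ht
    have hN2 : N ^ 2 = f t + 1 := by
      have := hNpow 1
      rwa [pow_one] at this
    have hN2ne : N ^ 2 ≠ 0 := by rw [he'1] at hNne; simpa using hNne
    have hN1ne : N ^ 1 ≠ 0 := fun h => hN2ne (by rw [pow_succ, h, zero_mul])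
    have hr2 : r 2 = 1 := by
      have h1 := hr1 2 hN2ne 2 le_rfl
      have h2 : r 2 < r 1 := hrdec 1 hN1ne
      omega
    have htv : IsTv f t := by
      refine ⟨fun h => hN2ne (by rw [hN2, h, h2Y]), ?_⟩
      obtain ⟨v, hv0, hv⟩ := finrank_eq_one_iff'.1 hr2
      refine ⟨(v : U), fun z => ?_⟩
      obtain ⟨c, hc⟩ := hv ⟨(N ^ 2) z, z, rfl⟩
      have hz : f t z + z = c • (v : U) := by
        have := congrArg Subtype.val hc
        rw [Submodule.coe_smul] at this
        rw [this]
        show f t z + z = (N ^ 2) z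
        rw [hN2]; rfl
      have hz' : f t z = z + c • (v : U) := by rw [← hz, add_comm (f t z) z, add_add_self]
      rcases zmod_two_cases c with rfl | rfl
      · exact Or.inl (by rw [hz', zero_smul, add_zero])
      · exact Or.inr (by rw [hz', one_smul])
    have htA : a ^ 2 ∈ A := A.pow_mem ha 2
    obtain ⟨k, hk, hkt⟩ : ∃ k ∈ K, k * a ^ 2 ≠ a ^ 2 * k := by
      by_contra hcon
      push Not at hcon
      apply hea'
      rw [he'1, pow_one]
      exact ⟨htA, Subgroup.mem_centralizer_iff.2 hcon⟩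
    -- the two pairs
    have pair : ∀ (k : X) (hk : k ∈ K), k * a ^ 2 ≠ a ^ 2 * k →
        ∃ (x : stab ρ U) (v w : U) (d : stab ρ U),
          (x : X) = a ^ 2 * (k * (a ^ 2)⁻¹ * k⁻¹) ∧ PairData f x t d v w ∧ (x : X) ∈ K ∧ (x : X) ^ 3 = 1 := by
      intro k hk hkt
      set k' : stab ρ U := ⟨k, hKstab hk⟩ with hk'
      set x : stab ρ U := t * (k' * t⁻¹ * k'⁻¹) with hx
      have hxe : (x : X) = a ^ 2 * (k * (a ^ 2)⁻¹ * k⁻¹) := rfl
      have hxK : (x : X) ∈ K := by
        rw [hxe, ← mul_assoc, ← mul_assoc]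
        exact K.mul_mem (hconjK _ htA k hk) (K.inv_mem hk)
      have hx1 : f x ≠ 1 := fun h => by
        have h1 := hfaith _ hxK h
        rw [hxe, ← mul_assoc, mul_inv_eq_one] at h1
        apply hkt
        rw [← mul_assoc, mul_inv_eq_iff_eq_mul] at h1
        exact h1.symm
      obtain ⟨v, w, P⟩ := exists_pairData f htv (htv.inv.conj k') hx hx1
        ⟨orderOf (x : X), hKodd _ hxK, by
          rw [← map_pow, show x ^ orderOf (x : X) = 1 from Subtype.ext (by
            rw [Subgroup.coe_pow, pow_orderOf_eq_one]; rfl), map_one]⟩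
      exact ⟨x, v, w, _, hxe, P, hxK, hfaith _ (K.pow_mem hxK 3) (by
        have h3 : (⟨(x : X) ^ 3, hKstab (K.pow_mem hxK 3)⟩ : stab ρ U) = x ^ 3 := Subtype.ext rfl
        rw [h3, map_pow, P.cube])⟩
    obtain ⟨x, v, w, d, hxe, P, hxK, hx3⟩ := pair k hk hkt
    have hk2 : (a * k * a⁻¹) * a ^ 2 ≠ a ^ 2 * (a * k * a⁻¹) := fun h => hkt (by
      calc k * a ^ 2 = a⁻¹ * ((a * k * a⁻¹) * a ^ 2) * a := by group
        _ = a⁻¹ * (a ^ 2 * (a * k * a⁻¹)) * a := by rw [h]
        _ = a ^ 2 * k := by group)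
    obtain ⟨y, v', w', d', hye, Q, hyK, hy3⟩ := pair _ (hconjK a ha k hk) hk2
    have hyx : y = a' * x * a'⁻¹ := Subtype.ext (by
      show (y : X) = a * (x : X) * a⁻¹
      rw [hye, hxe]; group)
    have h3 : IsPGroup 3 (Subgroup.closure ({x, y} : Set (stab ρ U))) := by
      refine ((isPGroup_closure_pair hxK.1 hyK.1 hx3 hy3).comap_of_injective (stab ρ U).subtype
        Subtype.coe_injective).to_le ?_
      rw [Subgroup.closure_le]
      rintro z (rfl | rfl)
      · exact Subgroup.subset_closure (Set.mem_insert _ _)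
      · exact Subgroup.subset_closure (Set.mem_insert_of_mem _ rfl)
    have hvv : v' = v := by
      have h1 := P.hdw
      rcases Q.hd w with h2 | h2
      · rw [h2, left_eq_add] at h1; exact absurd h1 P.hv
      · rw [h2] at h1; exact add_left_cancel h1
    have heq : supp f x = supp f y := by
      rcases P.supp_eq_or_disjoint Q (P.commute Q h3) with h | ⟨-, h⟩
      · exact h
      · exact absurd (h v P.v_mem (hvv ▸ Q.v_mem)) P.hv
    have haW : ∀ u ∈ supp f x, f a' u ∈ supp f x := by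
      rintro _ ⟨z, rfl⟩
      rw [heq]
      refine ⟨f a' z, ?_⟩
      show f y (f a' z) - f a' z = f a' (f x z - z)
      rw [map_sub, hyx, apply_mul_apply, apply_mul_apply, apply_inv_apply]
    have hta : ∀ u, f t (f a' u) = f a' (f t u) := fun u => by
      rw [← apply_mul_apply, ← apply_mul_apply, ht, ← pow_succ, ← pow_succ']
    have hneq : f t w = w := by
      have key : ∀ u, f t u = u + v → f a' v = f t (f a' u) + f a' u := by
        intro u hu
        rw [hta, hu, map_add, add_comm (f a' u) (f a' v), add_assoc, ZModModule.add_self, add_zero]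
      have htt : f t w = f a' (f a' w) := by rw [ht, pow_two, apply_mul_apply]
      have e2 := apply_dir f P.hd
      rcases P.mem_iff.1 (haW w P.w_mem) with h | h | h | h
      · exact absurd (apply_injective f a' (h.trans (map_zero _).symm)) P.hw
      · have := key w P.hdw
        rw [h, e2, ZModModule.add_self] at this
        exact absurd (apply_injective f a' (this.trans (map_zero _).symm)) P.hv
      · rw [htt, h, h]
      · have h1 := key w P.hdw
        rw [h, map_add, e2, P.hdw, add_comm w v, add_add_self, add_comm v w, add_add_self] at h1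
        rw [htt, h, map_add, h1, h, add_add_self]
    have h1 := P.hdw
    rw [hneq, left_eq_add] at h1
    exact P.hv h1
  have hee1 : e = 1 := by omega
  have hr11 : 1 ≤ r 1 := by rw [he0] at hpos; simpa using hpos
  have hMU : meas ρ A ≤ meas ρ B' := by
    refine hMle.trans ?_
    rw [hee1, pow_one]
    show _ ≤ Nat.card B' * Nat.card U
    rw [hcardU]
    calc 2 * Nat.card B' * Nat.card (fixSub ρ A) = Nat.card B' * (2 * Nat.card (fixSub ρ A)) := by ring
      _ ≤ _ := Nat.mul_le_mul_left _ (Nat.mul_le_mul_right _ (Nat.le_self_pow (by omega) 2))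
  refine ⟨?_, le_antisymm (hbest B' hB'A) hMU⟩
  obtain ⟨c, hc⟩ := Subgroup.card_dvd_of_le hB'A
  rw [hee1, pow_one] at hcardA
  have hc1 : c ≠ 1 := fun h => haB' (by
    rw [Subgroup.eq_of_le_of_card_ge hB'A (le_of_eq (by rw [hc, h, mul_one]))]; exact ha)
  have hc0 : c ≠ 0 := fun h => Nat.card_pos.ne' (by rw [hc, h, mul_zero] : Nat.card A = 0)
  have hc2 : c ≤ 2 := by
    have h : Nat.card B' * c ≤ Nat.card B' * 2 := by rw [← hc, mul_comm _ 2]; exact hcardA
    exact Nat.le_of_mul_le_mul_left h Nat.card_pos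
  rw [hc, show c = 2 by omega, mul_comm]

/-- Best offenders are generated by transvections. -/
theorem offender_le_closure [Group.IsSolvable X] (hρ : Function.Injective ρ) (hO2 : Cfsg.pCore 2 X = ⊥)
    {A : Subgroup X} (hA : IsPGroup 2 A) (hAc : ∀ a ∈ A, ∀ b ∈ A, a * b = b * a)
    (hbest : ∀ B ≤ A, meas ρ B ≤ meas ρ A) :
    A ≤ Subgroup.closure {d : X | d ∈ A ∧ IsTv ρ d} := by
  classical
  haveI := Fact.mk Nat.prime_two
  haveI hFn := CfsgLib.Solvable.fittingSubgroup_normal X
  set F := Cfsg.fittingSubgroup X with hF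
  haveI : IsMulCommutative A := ⟨⟨fun a b => Subtype.ext (hAc a a.2 b b.2)⟩⟩
  let good : Subgroup X → Prop := fun C => C ≤ A ∧ Nat.card A = 2 * Nat.card C ∧ meas ρ C = meas ρ A
  haveI : Fintype (Subgroup X) := Fintype.ofFinite _
  let all : Finset (Subgroup X) := Finset.univ.filter good
  have hdisj : A ⊓ Subgroup.centralizer (F : Set X) = ⊥ := by
    rw [eq_bot_iff]
    rintro c ⟨hcA, hcF⟩
    have hcF' : c ∈ F := CfsgLib.Solvable.centralizer_fittingSubgroup_le hcF
    obtain ⟨j, hj⟩ := hA ⟨c, hcA⟩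
    have h1 : orderOf c ∣ 2 ^ j := orderOf_dvd_of_pow_eq_one (congrArg Subtype.val hj)
    have h2 : Odd (orderOf c) := (fitting_odd hO2).of_dvd_nat (Subgroup.orderOf_mk c hcF' ▸ orderOf_dvd_natCard _)
    rw [Subgroup.mem_bot, ← orderOf_eq_one_iff]
    exact Nat.eq_one_of_dvd_coprimes ((Nat.coprime_two_left.2 h2).pow_left j) h1 dvd_rfl
  have hall : A ⊓ all.inf id = ⊥ := by
    rw [eq_bot_iff, ← hdisj]
    refine le_inf inf_le_left (Subgroup.le_centralizer_iff.1 ?_)
    refine CfsgLib.Solvable.le_of_cyclic_quotient_centralizer_le (A := A) (K := F)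
      (W := Subgroup.centralizer ((A ⊓ all.inf id : Subgroup X) : Set X))
      (by rw [Subgroup.normalizer_eq_top]; exact le_top) ?_ ?_
    · obtain ⟨j, hj⟩ := IsPGroup.iff_card.1 hA
      rw [hj]
      exact (Nat.coprime_two_left.2 (fitting_odd hO2)).pow_left j
    · rintro B hB ⟨a, ha, hAB⟩
      rw [Subgroup.le_centralizer_iff]
      by_cases hne : A ≤ Subgroup.centralizer ((F ⊓ Subgroup.centralizer (B : Set X) : Subgroup X) : Set X)
      · exact inf_le_left.trans hne
      · obtain ⟨h1, h2⟩ := index_two_of_cyclic ρ hρ hO2 hA hAc hbest hB ha hAB hne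
        refine inf_le_right.trans ((Finset.inf_le (f := id) (b := A ⊓ Subgroup.centralizer
          ((F ⊓ Subgroup.centralizer (B : Set X) : Subgroup X) : Set X)) ?_).trans inf_le_right)
        exact Finset.mem_filter.2 ⟨Finset.mem_univ _, inf_le_left, h1, h2⟩
  have hne : (all.powerset.filter fun s => A ⊓ s.inf id = ⊥).Nonempty :=
    ⟨all, Finset.mem_filter.2 ⟨Finset.mem_powerset.2 (Finset.Subset.refl _), hall⟩⟩
  obtain ⟨s, hs, hmin⟩ := Finset.exists_min_image _ Finset.card hne
  rw [Finset.mem_filter, Finset.mem_powerset] at hs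
  have hgood : ∀ C ∈ s, good C := fun C hC => (Finset.mem_filter.1 (hs.1 hC)).2
  have hmeas : ∀ s' : Finset (Subgroup X), (∀ C ∈ s', good C) → meas ρ (A ⊓ s'.inf id) = meas ρ A := by
    intro s'
    induction s' using Finset.induction_on with
    | empty => intro _; simp
    | insert C s' hC ih =>
      intro h
      have hD := ih fun C' hC' => h C' (Finset.mem_insert_of_mem hC')
      have hCg := h C (Finset.mem_insert_self _ _)
      rw [Finset.inf_insert, id_eq, show A ⊓ (C ⊓ s'.inf id) = C ⊓ (A ⊓ s'.inf id) by ac_rfl]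
      set D := A ⊓ s'.inf id
      refine le_antisymm (hbest _ (inf_le_right.trans inf_le_left)) ?_
      have hnorm : C ≤ Subgroup.normalizer (D : Set X) := Subgroup.le_normalizer_iff.2 fun g hg b hb => by
        rw [hAc g (hCg.1 hg) b hb.1, mul_inv_cancel_right]; exact hb
      have h1 := CfsgLib.PLoc.card_sup_mul_card_inf hnorm
      have h2 := Submodule.finrank_sup_add_finrank_inf_eq (fixSub ρ C) (fixSub ρ D)
      have h3 : Nat.card (fixSub ρ C) * Nat.card (fixSub ρ D) ≤
          Nat.card (fixSub ρ (C ⊓ D)) * Nat.card (fixSub ρ (C ⊔ D)) := by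
        rw [card_eq_two_pow, card_eq_two_pow, card_eq_two_pow, card_eq_two_pow, ← pow_add, ← pow_add, ← h2]
        refine Nat.pow_le_pow_right (by norm_num) (Nat.add_le_add ?_ ?_)
        · exact Submodule.finrank_mono (sup_le (fixSub_anti ρ inf_le_left) (fixSub_anti ρ inf_le_right))
        · exact Submodule.finrank_mono (inf_fixSub_le ρ C D)
      have h4 : meas ρ C * meas ρ D ≤ meas ρ (C ⊓ D) * meas ρ (C ⊔ D) := by
        calc meas ρ C * meas ρ D
            = (Nat.card C * Nat.card D) * (Nat.card (fixSub ρ C) * Nat.card (fixSub ρ D)) := by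
              unfold meas; ring
          _ ≤ (Nat.card C * Nat.card D) * (Nat.card (fixSub ρ (C ⊓ D)) * Nat.card (fixSub ρ (C ⊔ D))) :=
              Nat.mul_le_mul_left _ h3
          _ = _ := by rw [← h1]; unfold meas; ring
      rw [hCg.2.2, hD] at h4
      have h5 := h4.trans (Nat.mul_le_mul_left _ (hbest _ (sup_le hCg.1 inf_le_left)))
      exact Nat.le_of_mul_le_mul_right h5 (Nat.mul_pos Nat.card_pos Nat.card_pos)
  have hidx : ∀ C ∈ s, ∀ c ∈ A, ∀ d ∈ A, c ∉ C → d ∉ C → c * d ∈ C := by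
    intro C hC c hc d hd hcC hdC
    have hi : (C.subgroupOf A).index = 2 := by
      have h1 := (C.subgroupOf A).card_mul_index
      rw [Nat.card_congr (Subgroup.subgroupOfEquivOfLe (hgood C hC).1).toEquiv, (hgood C hC).2.1,
        mul_comm 2] at h1
      exact Nat.eq_of_mul_eq_mul_left Nat.card_pos h1
    have := (Subgroup.mul_mem_iff_of_index_two hi (a := ⟨c, hc⟩) (b := ⟨d, hd⟩)).2
      (by simp [Subgroup.mem_subgroupOf, hcC, hdC])
    exact this
  have hD : ∀ C ∈ s, ∃ d, d ∈ A ∧ IsTv ρ d ∧ (∀ C' ∈ s, C' ≠ C → d ∈ C') ∧ d ∉ C := by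
    intro C hC
    set D := A ⊓ (s.erase C).inf id with hDdef
    have hDC : D ⊓ C = ⊥ := by
      rw [hDdef, ← hs.2]
      conv_rhs => rw [← Finset.insert_erase hC, Finset.inf_insert, id_eq]
      ac_rfl
    have hDne : D ≠ ⊥ := fun h => by
      have h1 := hmin (s.erase C) (Finset.mem_filter.2
        ⟨Finset.mem_powerset.2 ((Finset.erase_subset _ _).trans hs.1), h⟩)
      have h2 := Finset.card_erase_lt_of_mem hC
      omega
    have hnorm : D ≤ Subgroup.normalizer (C : Set X) := Subgroup.le_normalizer_iff.2 fun g hg b hb => by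
      rw [hAc g hg.1 b ((hgood C hC).1 hb), mul_inv_cancel_right]; exact hb
    have h1 := CfsgLib.PLoc.card_sup_mul_card_inf hnorm
    rw [hDC, Subgroup.card_bot, mul_one] at h1
    have h2 : Nat.card ↥(D ⊔ C) ≤ Nat.card A := Subgroup.card_le_of_le (sup_le inf_le_left (hgood C hC).1)
    rw [h1, (hgood C hC).2.1] at h2
    have hD2 : Nat.card D ≤ 2 := Nat.le_of_mul_le_mul_right h2 Nat.card_pos
    obtain ⟨⟨d, hdD⟩, hd1⟩ := (Subgroup.ne_bot_iff_exists_ne_one).1 hDne
    have hd1' : d ≠ 1 := fun h => hd1 (Subtype.ext h)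
    refine ⟨d, hdD.1, ⟨fun h => hd1' (hρ (h.trans (map_one ρ).symm)), ?_⟩,
      fun C' hC' hne' => Finset.inf_le (f := id) (Finset.mem_erase.2 ⟨hne', hC'⟩) hdD.2,
      fun h => hd1' (Subgroup.mem_bot.1 (hDC ▸ ⟨hdD, h⟩ : d ∈ (⊥ : Subgroup X)))⟩
    have hm := hmeas (s.erase C) fun C' hC' => hgood C' (Finset.mem_of_mem_erase hC')
    have hV : Nat.card V ≤ 2 * Nat.card (fixSub ρ D) := by
      have h0 : fixSub ρ (⊥ : Subgroup X) = ⊤ := eq_top_iff.2 fun z _ b hb => by
        rw [Subgroup.mem_bot.1 hb, map_one]; rfl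
      calc Nat.card V = meas ρ (⊥ : Subgroup X) := by
            rw [meas, h0, Subgroup.card_bot, one_mul]
            exact (Nat.card_congr (Submodule.topEquiv).toEquiv).symm
        _ ≤ meas ρ D := hm.symm ▸ hbest ⊥ bot_le
        _ ≤ _ := Nat.mul_le_mul_right _ hD2
    have hkle : fixSub ρ D ≤ LinearMap.ker (ρ d - 1) := fun z hz => by
      rw [LinearMap.mem_ker, LinearMap.sub_apply, Module.End.one_apply, hz d hdD, sub_self]
    have hrk : Module.finrank (ZMod 2) (LinearMap.range (ρ d - 1)) ≤ 1 := by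
      have h3 := LinearMap.finrank_range_add_finrank_ker (ρ d - 1)
      have h4 := Submodule.finrank_mono hkle
      rw [Module.natCard_eq_pow_finrank (K := ZMod 2) (V := V), card_eq_two_pow, Nat.card_zmod,
        ← pow_succ', Nat.pow_le_pow_iff_right (by norm_num)] at hV
      omega
    obtain ⟨v, hv⟩ := finrank_le_one_iff.1 hrk
    refine ⟨(v : V), fun z => ?_⟩
    obtain ⟨c, hc⟩ := hv ⟨(ρ d - 1) z, z, rfl⟩
    have hz : ρ d z = z + c • (v : V) := by
      have : c • (v : V) = ρ d z - z := congrArg Subtype.val hc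
      rw [this]; abel
    rcases zmod_two_cases c with rfl | rfl
    · exact Or.inl (by rw [hz, zero_smul, add_zero])
    · exact Or.inr (by rw [hz, one_smul])
  choose! dd hdA hdtv hdin hdout using hD
  have main : ∀ u : Finset (Subgroup X), u ⊆ s → ∀ c ∈ A, (∀ C ∈ s, C ∉ u → c ∈ C) →
      c ∈ Subgroup.closure {d : X | d ∈ A ∧ IsTv ρ d} := by
    intro u
    induction u using Finset.induction_on with
    | empty =>
      intro _ c hc hin
      have : c ∈ A ⊓ s.inf id := ⟨hc, (Finset.le_inf (f := id) (a := Subgroup.zpowers c) fun C hC =>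
        Subgroup.zpowers_le.2 (hin C hC (Finset.notMem_empty C))) (Subgroup.mem_zpowers c)⟩
      rw [hs.2, Subgroup.mem_bot] at this
      rw [this]; exact one_mem _
    | insert C u hCu ih =>
      intro hsub c hc hin
      have hCs := hsub (Finset.mem_insert_self C u)
      have hsub' := (Finset.subset_insert C u).trans hsub
      have hd : dd C ∈ Subgroup.closure {d : X | d ∈ A ∧ IsTv ρ d} :=
        Subgroup.subset_closure ⟨hdA C hCs, hdtv C hCs⟩
      by_cases hcC : c ∈ C
      · exact ih hsub' c hc fun C' hC' hC'u => by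
          by_cases h : C' = C
          · exact h ▸ hcC
          · exact hin C' hC' (by simp [h, hC'u])
      · have h1 := ih hsub' (c * dd C) (A.mul_mem hc (hdA C hCs)) fun C' hC' hC'u => by
          by_cases h : C' = C
          · subst h
            exact hidx _ hCs c hc _ (hdA _ hCs) hcC (hdout _ hCs)
          · exact C'.mul_mem (hin C' hC' (by simp [h, hC'u])) (hdin C hCs C' hC' h)
        have h2 := Subgroup.mul_mem _ h1 (Subgroup.inv_mem _ hd)
        rwa [mul_inv_cancel_right] at h2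
  exact fun c hc => main s (Finset.Subset.refl s) c hc fun C hC hCu => absurd hC hCu

end CfsgLib.FailFact
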