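import Cfsg.Agent.Lib.FailFact.Offender

/-!
A set of transvections closed under conjugation in a solvable linear group over `𝔽₂` with trivial
`2`-core generates a direct product of symmetric groups of degree `3`.
-/

set_option autoImplicit false
set_option linter.style.haveILetI false

namespace CfsgLib.FailFact

open CfsgLib.HallHigman (stab)

variable {X : Type*} [Group X] [Finite X] {V : Type*} [AddCommGroup V] [Module (ZMod 2) V] [Finite V]
variable {ρ : Representation (ZMod 2) X V}

omit [Finite X] [Finite V] in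
theorem PairData.symm {x d e : X} {v w : V} (P : PairData ρ x d e v w) : PairData ρ (e * d) e d w v :=
  ⟨rfl, P.he, P.hd, P.hdw, P.hev, P.hw, P.hv, P.hvw.symm⟩

omit [Finite X] [Finite V] in
theorem PairData.supp_symm {x d e : X} {v w : V} (P : PairData ρ x d e v w) :
    supp ρ (e * d) = supp ρ x := by
  ext u
  rw [P.symm.mem_iff, P.mem_iff, add_comm w v]
  tauto

/-- The product of symmetric groups of degree three. -/
theorem closure_equiv_pi_perm [Group.IsSolvable X] (hρ : Function.Injective ρ) (hO2 : Cfsg.pCore 2 X = ⊥)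
    (D : Set X) (hD : ∀ d ∈ D, IsTv ρ d) (hconj : ∀ g : X, ∀ d ∈ D, g * d * g⁻¹ ∈ D) (hne : D.Nonempty) :
    ∃ n : ℕ, 1 ≤ n ∧ Nonempty (Subgroup.closure D ≃* (Fin n → Equiv.Perm (Fin 3))) := by
  classical
  haveI hFn := CfsgLib.Solvable.fittingSubgroup_normal X
  haveI := CfsgLib.Solvable.fittingSubgroup_isNilpotent X
  set F := Cfsg.fittingSubgroup X with hF
  have hodd : ∀ k ∈ F, Odd (orderOf k) := fun k hk =>
    (fitting_odd hO2).of_dvd_nat (Subgroup.orderOf_mk k hk ▸ orderOf_dvd_natCard _)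
  -- pairs
  let IsPair : X → Prop := fun x => x ∈ F ∧ ∃ d ∈ D, ∃ e ∈ D, ∃ v w, PairData ρ x d e v w
  have hex : ∀ d ∈ D, ∃ e ∈ D, ∃ v w, d * e ∈ F ∧ PairData ρ (d * e) d e v w := by
    intro d hd
    obtain ⟨hd1, v0, hv0⟩ := hD d hd
    have hdd : d * d = 1 := hρ (by
      rw [map_one]
      exact LinearMap.ext fun z => (apply_mul_apply ρ d d z).trans (apply_apply_self ρ hv0 z))
    have hinv : d⁻¹ = d := inv_eq_of_mul_eq_one_right hdd
    have hdne : d ≠ 1 := fun h => hd1 (h ▸ map_one ρ)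
    obtain ⟨k, hk, hne⟩ : ∃ k ∈ F, k * d ≠ d * k := by
      by_contra hcon
      push Not at hcon
      have h1 : d ∈ F := CfsgLib.Solvable.centralizer_fittingSubgroup_le (Subgroup.mem_centralizer_iff.2 hcon)
      have h2 := hodd d h1
      rw [orderOf_eq_prime (p := 2) (by rw [pow_two, hdd]) hdne] at h2
      exact absurd h2 (by decide)
    have hx : d * (k * d * k⁻¹) ∈ F := by
      rw [show d * (k * d * k⁻¹) = (d * k * d⁻¹) * k⁻¹ by rw [hinv]; group]
      exact F.mul_mem (hFn.conj_mem k hk d) (F.inv_mem hk)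
    have hx1 : ρ (d * (k * d * k⁻¹)) ≠ 1 := fun h => by
      have h1 : d * (k * d * k⁻¹) = 1 := hρ (h.trans (map_one ρ).symm)
      rw [mul_eq_one_iff_inv_eq, hinv] at h1
      exact hne (mul_inv_eq_iff_eq_mul.1 h1.symm)
    obtain ⟨v, w, P⟩ := exists_pairData ρ (hD d hd) (hD _ (hconj k d hd)) rfl hx1
      ⟨_, hodd _ hx, by rw [← map_pow, pow_orderOf_eq_one, map_one]⟩
    exact ⟨_, hconj k d hd, v, w, hx, P⟩
  have hcube : ∀ x, IsPair x → x ^ 3 = 1 := by
    rintro x ⟨-, d, -, e, -, v, w, P⟩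
    exact hρ (by rw [map_pow, P.cube, map_one])
  have hcomm : ∀ x y, IsPair x → IsPair y → ρ x * ρ y = ρ y * ρ x := by
    intro x y hx hy
    have h3 := isPGroup_closure_pair hx.1 hy.1 (hcube x hx) (hcube y hy)
    obtain ⟨-, d, -, e, -, v, w, P⟩ := hx
    obtain ⟨-, d', -, e', -, v', w', Q⟩ := hy
    exact P.commute Q h3
  have hdisj : ∀ x y, IsPair x → IsPair y → supp ρ x ≠ supp ρ y → ∀ u ∈ supp ρ x, u ∈ supp ρ y → u = 0 := by
    intro x y hx hy hne
    have hc := hcomm x y hx hy
    obtain ⟨-, d, -, e, -, v, w, P⟩ := hx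
    obtain ⟨-, d', -, e', -, v', w', Q⟩ := hy
    exact ((P.supp_eq_or_disjoint Q hc).resolve_left hne).2
  have hconjP : ∀ (g x : X), IsPair x → IsPair (g * x * g⁻¹) := by
    rintro g x ⟨hxF, d, hd, e, he, v, w, P⟩
    refine ⟨hFn.conj_mem x hxF g, _, hconj g d hd, _, hconj g e he, ρ g v, ρ g w, ?_⟩
    have key : ∀ (a : X) (z : V), ρ (g * a * g⁻¹) (ρ g z) = ρ g (ρ a z) := fun a z => by
      rw [apply_mul_apply, apply_mul_apply, apply_inv_apply]
    refine ⟨by rw [P.hx]; group, fun z => ?_, fun z => ?_, ?_, ?_,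
      fun h => P.hv (apply_injective ρ g (h.trans (map_zero _).symm)),
      fun h => P.hw (apply_injective ρ g (h.trans (map_zero _).symm)),
      fun h => P.hvw (apply_injective ρ g h)⟩
    · rw [← apply_self_inv ρ g z, key]
      rcases P.hd (ρ g⁻¹ z) with h | h
      · exact Or.inl (by rw [h])
      · exact Or.inr (by rw [h, map_add])
    · rw [← apply_self_inv ρ g z, key]
      rcases P.he (ρ g⁻¹ z) with h | h
      · exact Or.inl (by rw [h])
      · exact Or.inr (by rw [h, map_add])
    · rw [key, P.hev, map_add]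
    · rw [key, P.hdw, map_add]
  -- a transvection of a pair fixes the other supports
  have hfixS : ∀ (x d e : X) (v w : V), IsPair x → d ∈ D → PairData ρ x d e v w →
      ∀ y, IsPair y → supp ρ y ≠ supp ρ x → ∀ z ∈ supp ρ y, ρ d z = z := by
    intro x d e v w hx hd P y hy hne
    have hmap : ∀ z ∈ supp ρ y, ρ d z ∈ supp ρ (d * y * d⁻¹) := by
      rintro _ ⟨z, rfl⟩
      refine ⟨ρ d z, ?_⟩
      show ρ (d * y * d⁻¹) (ρ d z) - ρ d z = ρ d (ρ y z - z)
      rw [apply_mul_apply, apply_mul_apply, apply_inv_apply, map_sub]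
    by_cases heq : supp ρ (d * y * d⁻¹) = supp ρ y
    · intro z hz
      rcases P.hd z with h | h
      · exact h
      · exfalso
        have h1 := (supp ρ y).sub_mem (heq ▸ hmap z hz) hz
        rw [h, add_sub_cancel_left] at h1
        exact P.hv (hdisj y x hy hx hne v h1 P.v_mem)
    · exfalso
      have hmove : ∀ z ∈ supp ρ y, z ≠ 0 → ρ d z = z + v := by
        intro z hz hz0
        rcases P.hd z with h | h
        · exact absurd (hdisj y _ hy (hconjP d y hy) (Ne.symm heq) z hz (by simpa [h] using hmap z hz)) hz0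
        · exact h
      obtain ⟨-, d', -, e', -, v', w', Q⟩ := hy
      have h1 := hmove v' Q.v_mem Q.hv
      have h2 := hmove w' Q.w_mem Q.hw
      have h3 := hmove (v' + w') (add_mem Q.v_mem Q.w_mem) Q.add_ne
      rw [map_add, h1, h2, add_add_add_comm, add_self_eq_zero', add_zero, left_eq_add] at h3
      exact P.hv h3
  -- the common fixed space
  let C0 : Submodule (ZMod 2) V := ⨅ (x : X) (_ : IsPair x), LinearMap.ker (ρ x - 1)
  have hC0 : ∀ z, z ∈ C0 ↔ ∀ x, IsPair x → ρ x z = z := fun z => by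
    simp only [C0, Submodule.mem_iInf, LinearMap.mem_ker, LinearMap.sub_apply, Module.End.one_apply, sub_eq_zero]
  have hdC0 : ∀ d ∈ D, ∀ z ∈ C0, ρ d z = z := by
    intro d hd z hz
    obtain ⟨e, he, v, w, hxF, P⟩ := hex d hd
    have hx : IsPair (d * e) := ⟨hxF, d, hd, e, he, v, w, P⟩
    rcases P.hd z with h | h
    · exact h
    · exfalso
      have hdz : ρ d z ∈ C0 := (hC0 _).2 fun y hy => by
        have h1 := (hC0 z).1 hz _ (hconjP d⁻¹ y hy)
        rw [inv_inv, apply_mul_apply, apply_mul_apply] at h1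
        conv_rhs => rw [← h1, apply_self_inv]
      have h1 := C0.sub_mem hdz hz
      rw [h, add_sub_cancel_left] at h1
      exact P.hv (P.eq_zero_of_fixed P.v_mem ((hC0 v).1 h1 _ hx))
  -- the supports
  let Ws : Set (Submodule (ZMod 2) V) := {S | ∃ x, IsPair x ∧ supp ρ x = S}
  haveI : Finite (Submodule (ZMod 2) V) := Finite.of_injective _ (SetLike.coe_injective (A := Submodule (ZMod 2) V))
  have hdecomp : ∀ z : V, ∃ c ∈ C0, z + c ∈ ⨆ S : Ws, (S : Submodule (ZMod 2) V) := by
    haveI : Fintype X := Fintype.ofFinite X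
    intro z
    suffices h : ∀ s : Finset X, (∀ x ∈ s, IsPair x) →
        ∃ c, (∀ x ∈ s, ρ x c = c) ∧ z + c ∈ ⨆ S : Ws, (S : Submodule (ZMod 2) V) by
      obtain ⟨c, h1, h2⟩ := h (Finset.univ.filter IsPair) fun x hx => (Finset.mem_filter.1 hx).2
      exact ⟨c, (hC0 c).2 fun x hx => h1 x (Finset.mem_filter.2 ⟨Finset.mem_univ _, hx⟩), h2⟩
    intro s
    induction s using Finset.induction_on with
    | empty => exact fun _ => ⟨z, by simp, by rw [add_self_eq_zero']; exact zero_mem _⟩
    | insert x s hxs ih =>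
      intro hs
      obtain ⟨c, hc, hcM⟩ := ih fun y hy => hs y (Finset.mem_insert_of_mem hy)
      have hx := hs x (Finset.mem_insert_self x s)
      obtain ⟨hxF, d, hd, e, he, v, w, P⟩ := id hx
      obtain ⟨u, hu, hud, hue⟩ := P.decomp c
      have hfx := P.apply_decomp hud hue
      refine ⟨c + u, fun y hy => ?_, ?_⟩
      · rcases Finset.mem_insert.1 hy with rfl | hy
        · exact hfx
        have hcy : ∀ t, ρ x (ρ y t) = ρ y (ρ x t) := fun t =>
          LinearMap.congr_fun (hcomm x y hx (hs y (Finset.mem_insert_of_mem hy))) t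
        have hyu : ρ y u ∈ supp ρ x := by
          obtain ⟨t, ht⟩ := (P.mem_iff.2 hu : u ∈ supp ρ x)
          refine ⟨ρ y t, ?_⟩
          rw [← ht]
          show ρ x (ρ y t) - ρ y t = ρ y (ρ x t - t)
          rw [map_sub, hcy]
        have hsum : ρ y u + u = ρ y (c + u) + (c + u) := by
          rw [map_add, hc y hy, add_add_add_comm, add_self_eq_zero', zero_add]
        have h0 : ρ y u + u = 0 := P.eq_zero_of_fixed (add_mem hyu (P.mem_iff.2 hu)) (by
          rw [hsum, map_add, hcy, hfx])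
        rw [hsum] at h0
        rw [← add_zero (ρ y (c + u)), ← add_self_eq_zero' (c + u), ← add_assoc, h0, zero_add]
      · rw [← add_assoc]
        exact add_mem hcM (Submodule.mem_iSup_of_mem (⟨supp ρ x, x, hx, rfl⟩ : Ws) (P.mem_iff.2 hu))
  -- the action on the supports
  haveI : Fintype Ws := Fintype.ofFinite Ws
  set L := Subgroup.closure D with hL
  have hLstab : ∀ S : Ws, L ≤ stab ρ (S : Submodule (ZMod 2) V) := by
    rintro ⟨S, y, hy, rfl⟩
    rw [hL, Subgroup.closure_le]
    intro d hd z hz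
    obtain ⟨e, he, v, w, hxF, P⟩ := hex d hd
    have hx : IsPair (d * e) := ⟨hxF, d, hd, e, he, v, w, P⟩
    show ρ d z ∈ supp ρ y
    by_cases h : supp ρ y = supp ρ (d * e)
    · rcases P.hd z with h1 | h1
      · rw [h1]; exact hz
      · rw [h1]; exact add_mem hz (h.symm ▸ P.v_mem)
    · rw [hfixS _ d e v w hx hd P y hy h z hz]; exact hz
  have hLC0 : ∀ g ∈ L, ∀ z ∈ C0, ρ g z = z := by
    intro g hg
    induction hg using Subgroup.closure_induction with
    | mem d hd => exact hdC0 d hd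
    | mul a b _ _ iha ihb => intro z hz; rw [apply_mul_apply, ihb z hz, iha z hz]
    | one => intro z _; simp
    | inv a _ ih => intro z hz; conv_lhs => rw [← ih z hz, apply_inv_apply]
  have hcard3 : ∀ S : Ws, Nat.card {z : V // z ∈ (S : Submodule (ZMod 2) V) ∧ z ≠ 0} = 3 := by
    rintro ⟨S, y, ⟨-, d, -, e, -, v, w, P⟩, rfl⟩
    have e1 : {z : V | z ∈ supp ρ y ∧ z ≠ 0} = {v, w, v + w} := by
      ext z
      simp only [Set.mem_setOf_eq, Set.mem_insert_iff, Set.mem_singleton_iff, P.mem_iff]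
      constructor
      · rintro ⟨h | h | h | h, h0⟩
        · exact absurd h h0
        all_goals simp [h]
      · rintro (h | h | h) <;> subst h
        · exact ⟨Or.inr (Or.inl rfl), P.hv⟩
        · exact ⟨Or.inr (Or.inr (Or.inl rfl)), P.hw⟩
        · exact ⟨Or.inr (Or.inr (Or.inr rfl)), P.add_ne⟩
    have h3 : ({v, w, v + w} : Set V).ncard = 3 := Set.ncard_eq_three.2 ⟨v, w, v + w, P.hvw,
      fun h => P.hw (by rwa [left_eq_add] at h), fun h => P.hv (by rwa [right_eq_add] at h), rfl⟩
    rw [← e1] at h3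
    exact h3
  let eS : ∀ S : Ws, {z : V // z ∈ (S : Submodule (ZMod 2) V) ∧ z ≠ 0} ≃ Fin 3 := fun S =>
    Finite.equivFinOfCardEq (hcard3 S)
  let act : ∀ S : Ws, MulAction L {z : V // z ∈ (S : Submodule (ZMod 2) V) ∧ z ≠ 0} := fun S =>
    { smul := fun g z => ⟨ρ (g : X) z, hLstab S g.2 _ z.2.1,
        fun h => z.2.2 (apply_injective ρ (g : X) (h.trans (map_zero _).symm))⟩
      one_smul := fun z => Subtype.ext (show ρ ((1 : L) : X) (z : V) = z by rw [OneMemClass.coe_one, map_one]; rfl)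
      mul_smul := fun a b z => Subtype.ext (show ρ ((a * b : L) : X) (z : V) = ρ (a : X) (ρ (b : X) (z : V)) by
        rw [Subgroup.coe_mul, apply_mul_apply]) }
  let φ : ∀ S : Ws, L →* Equiv.Perm (Fin 3) := fun S =>
    (eS S).permCongrHom.toMonoidHom.comp (@MulAction.toPermHom L _ _ (act S))
  have hφ : ∀ (S : Ws) (g : L), φ S g = 1 ↔ ∀ z ∈ (S : Submodule (ZMod 2) V), ρ (g : X) z = z := by
    intro S g
    rw [show φ S g = 1 ↔ (@MulAction.toPermHom L _ _ (act S) : L →* _) g = 1 from
      (eS S).permCongrHom.map_eq_one_iff]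
    constructor
    · intro h z hz
      by_cases h0 : z = 0
      · rw [h0, map_zero]
      · exact congrArg Subtype.val (Equiv.Perm.ext_iff.1 h ⟨z, hz, h0⟩)
    · intro h
      exact Equiv.ext fun z => Subtype.ext (h z z.2.1)
  let en := Fintype.equivFin Ws
  let ψ : L →* (Fin (Fintype.card Ws) → Equiv.Perm (Fin 3)) := Pi.monoidHom fun i => φ (en.symm i)
  refine ⟨Fintype.card Ws, ?_, ⟨MulEquiv.ofBijective ψ ⟨?_, ?_⟩⟩⟩
  · obtain ⟨d, hd⟩ := hne
    obtain ⟨e, he, v, w, hxF, P⟩ := hex d hd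
    exact Fintype.card_pos_iff.2 ⟨⟨_, _, ⟨hxF, d, hd, e, he, v, w, P⟩, rfl⟩⟩
  · rw [injective_iff_map_eq_one]
    intro g hg
    have hS : ∀ S : Ws, (S : Submodule (ZMod 2) V) ≤ LinearMap.eqLocus (ρ (g : X)) 1 := fun S z hz => by
      have h := congrFun hg (en S)
      change φ (en.symm (en S)) g = 1 at h
      rw [en.symm_apply_apply, hφ] at h
      exact h z hz
    apply Subtype.ext
    apply hρ
    rw [OneMemClass.coe_one, map_one]
    apply LinearMap.ext
    intro z
    obtain ⟨c, hc, hcM⟩ := hdecomp z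
    have h1 : ρ (g : X) (z + c) = z + c := iSup_le hS hcM
    rw [map_add, hLC0 g g.2 c hc] at h1
    exact add_right_cancel h1
  · rw [← MonoidHom.range_eq_top, eq_top_iff]
    have htop : ∀ i, (ψ.range.comap (MonoidHom.mulSingle (fun _ => Equiv.Perm (Fin 3)) i)) = ⊤ := by
      intro i
      obtain ⟨x, hx, hxS⟩ := (en.symm i).2
      obtain ⟨hxF, d, hd, e, he, v, w, P⟩ := id hx
      have heL : e ∈ L := Subgroup.subset_closure he
      have hdL : d ∈ L := Subgroup.subset_closure hd
      have hsingle : ∀ g : L, (∀ y, IsPair y → supp ρ y ≠ supp ρ x → ∀ z ∈ supp ρ y, ρ (g : X) z = z) →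
          φ (en.symm i) g ∈ ψ.range.comap (MonoidHom.mulSingle (fun _ => Equiv.Perm (Fin 3)) i) := by
        intro g hg
        refine ⟨g, ?_⟩
        funext j
        by_cases hji : j = i
        · subst hji
          rw [MonoidHom.mulSingle_apply, Pi.mulSingle_eq_same]
          rfl
        · rw [MonoidHom.mulSingle_apply, Pi.mulSingle_eq_of_ne hji]
          show φ (en.symm j) g = 1
          rw [hφ]
          obtain ⟨y, hy, hyS⟩ := (en.symm j).2
          rw [← hyS]
          exact hg y hy fun h => hji (en.symm.injective (Subtype.ext (by rw [← hyS, h, hxS])))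
      have hd' := hfixS x d e v w hx hd P
      have hed : IsPair (e * d) := ⟨by
        have : e * d = d⁻¹ * x * d := by rw [P.hx]; group
        rw [this]; simpa using hFn.conj_mem x hxF d⁻¹, e, he, d, hd, w, v, P.symm⟩
      have he' : ∀ y, IsPair y → supp ρ y ≠ supp ρ x → ∀ z ∈ supp ρ y, ρ e z = z := fun y hy h =>
        hfixS (e * d) e d w v hed he P.symm y hy (by rwa [P.supp_symm])
      have h1 := hsingle ⟨d, hdL⟩ hd'
      have h2 := hsingle ⟨x, P.hx ▸ L.mul_mem hdL heL⟩ fun y hy h z hz => by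
        show ρ x z = z
        rw [P.hx, apply_mul_apply, he' y hy h z hz, hd' y hy h z hz]
      set H := ψ.range.comap (MonoidHom.mulSingle (fun _ => Equiv.Perm (Fin 3)) i)
      have o2 : orderOf (φ (en.symm i) ⟨d, hdL⟩) = 2 := by
        haveI := Fact.mk Nat.prime_two
        refine orderOf_eq_prime ?_ fun h => ?_
        · rw [← map_pow, hφ]
          intro z _
          show ρ (d ^ 2) z = z
          rw [pow_two, apply_mul_apply, apply_apply_self ρ P.hd]
        · have h' : ρ d w = w := (hφ _ _).1 h w (by rw [← hxS]; exact P.w_mem)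
          rw [P.hdw, add_eq_left] at h'
          exact P.hv h'
      have o3 : orderOf (φ (en.symm i) ⟨x, P.hx ▸ L.mul_mem hdL heL⟩) = 3 := by
        haveI := Fact.mk Nat.prime_three
        refine orderOf_eq_prime ?_ fun h => ?_
        · rw [← map_pow, hφ]
          intro z _
          show ρ (x ^ 3) z = z
          rw [hcube x hx, map_one]; rfl
        · have h' : ρ x v = v := (hφ _ _).1 h v (by rw [← hxS]; exact P.v_mem)
          rw [P.apply_v] at h'
          exact P.hvw h'.symm
      have d2 : 2 ∣ Nat.card H := by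
        have := orderOf_dvd_natCard (⟨_, h1⟩ : H)
        rwa [Subgroup.orderOf_mk, o2] at this
      have d3 : 3 ∣ Nat.card H := by
        have := orderOf_dvd_natCard (⟨_, h2⟩ : H)
        rwa [Subgroup.orderOf_mk, o3] at this
      have h6 : 2 * 3 ∣ Nat.card H := Nat.Coprime.mul_dvd_of_dvd_of_dvd (by norm_num) d2 d3
      refine Subgroup.eq_top_of_le_card _ ?_
      rw [Nat.card_perm, Nat.card_fin]
      exact le_trans (by decide) (Nat.le_of_dvd Nat.card_pos h6)
    intro f _
    have hf : f ∈ Subgroup.pi Set.univ (fun _ : Fin (Fintype.card Ws) => (⊤ : Subgroup (Equiv.Perm (Fin 3)))) :=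
      fun _ _ => Subgroup.mem_top _
    refine (Subgroup.pi_le_iff.2 fun i => ?_) hf
    rw [Subgroup.map_le_iff_le_comap, htop i]

end CfsgLib.FailFact
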