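import Mathlib
import Cfsg.Agent.Lib.Linear.Card

/-!
Transvections over the field with two elements and the supports of their products of odd order.
-/

set_option autoImplicit false
set_option linter.style.haveILetI false

namespace CfsgLib.FailFact

variable {X : Type*} [Group X] {V : Type*} [AddCommGroup V] [Module (ZMod 2) V]
variable (ρ : Representation (ZMod 2) X V)

/-- `d` acts as a transvection. -/
def IsTv (d : X) : Prop := ρ d ≠ 1 ∧ ∃ v : V, ∀ z, ρ d z = z ∨ ρ d z = z + v

/-- The image of `ρ x - 1`. -/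
def supp (x : X) : Submodule (ZMod 2) V := LinearMap.range (ρ x - 1)

theorem add_self_eq_zero' (z : V) : z + z = 0 := ZModModule.add_self z

theorem add_add_self (a b : V) : a + (a + b) = b := by
  rw [← add_assoc, add_self_eq_zero', zero_add]

theorem apply_mul_apply (a b : X) (z : V) : ρ (a * b) z = ρ a (ρ b z) := by
  rw [map_mul]; rfl

theorem apply_inv_apply (a : X) (z : V) : ρ a⁻¹ (ρ a z) = z := by
  rw [← apply_mul_apply, inv_mul_cancel, map_one]; rfl

theorem apply_self_inv (a : X) (z : V) : ρ a (ρ a⁻¹ z) = z := by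
  rw [← apply_mul_apply, mul_inv_cancel, map_one]; rfl

theorem apply_injective (a : X) : Function.Injective (ρ a) :=
  Function.LeftInverse.injective (apply_inv_apply ρ a)

theorem mem_supp {x : X} {u : V} : u ∈ supp ρ x ↔ ∃ z, ρ x z - z = u := Iff.rfl

/-- The direction of a transvection is fixed. -/
theorem apply_dir {d : X} {v : V} (h : ∀ z, ρ d z = z ∨ ρ d z = z + v) : ρ d v = v := by
  rcases h v with h1 | h1
  · exact h1
  · rw [add_self_eq_zero'] at h1
    have : v = 0 := apply_injective ρ d (by rw [h1, map_zero])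
    rw [this, map_zero]

theorem apply_apply_self {d : X} {v : V} (h : ∀ z, ρ d z = z ∨ ρ d z = z + v) (z : V) :
    ρ d (ρ d z) = z := by
  rcases h z with h1 | h1
  · rw [h1, h1]
  · rw [h1, map_add, apply_dir ρ h, h1, add_assoc, add_self_eq_zero', add_zero]

/-- The shape of a pair of transvections whose product has odd order. -/
structure PairData (x d e : X) (v w : V) : Prop where
  hx : x = d * e
  hd : ∀ z, ρ d z = z ∨ ρ d z = z + v
  he : ∀ z, ρ e z = z ∨ ρ e z = z + w
  hev : ρ e v = v + w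
  hdw : ρ d w = w + v
  hv : v ≠ 0
  hw : w ≠ 0
  hvw : v ≠ w

theorem exists_pairData {x d e : X} (hd : IsTv ρ d) (he : IsTv ρ e) (hx : x = d * e) (hx1 : ρ x ≠ 1)
    (hodd : ∃ n : ℕ, Odd n ∧ ρ x ^ n = 1) : ∃ v w, PairData ρ x d e v w := by
  obtain ⟨hd1, v, hdv⟩ := hd
  obtain ⟨he1, w, hew⟩ := he
  obtain ⟨n, ⟨k, rfl⟩, hn⟩ := hodd
  have hv : v ≠ 0 := fun h => hd1 (LinearMap.ext fun z => by
    rcases hdv z with h1 | h1
    · exact h1
    · rw [h1, h, add_zero]; rfl)
  have hw : w ≠ 0 := fun h => he1 (LinearMap.ext fun z => by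
    rcases hew z with h1 | h1
    · exact h1
    · rw [h1, h, add_zero]; rfl)
  have kill : ρ x ^ 4 = 1 → False := by
    intro h4
    apply hx1
    obtain ⟨j, rfl⟩ | ⟨j, rfl⟩ := Nat.even_or_odd k
    · rw [show 2 * (j + j) + 1 = 4 * j + 1 by ring, pow_succ, pow_mul, h4, one_pow, one_mul] at hn
      exact hn
    · rw [show 2 * (2 * j + 1) + 1 = 4 * j + 3 by ring, pow_add, pow_mul, h4, one_pow, one_mul] at hn
      rw [show (4 : ℕ) = 3 + 1 by norm_num, pow_succ, hn, one_mul] at h4
      exact h4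
  set N : Module.End (ZMod 2) V := ρ d + 1 with hN
  set M : Module.End (ZMod 2) V := ρ e + 1 with hM
  have h2 : ∀ Y : Module.End (ZMod 2) V, Y + Y = 0 := fun Y =>
    LinearMap.ext fun z => add_self_eq_zero' (Y z)
  have hsq : ∀ Y : Module.End (ZMod 2) V, (1 + Y) * (1 + Y) = 1 + Y * Y := fun Y => by
    rw [add_mul, mul_add, mul_add, one_mul, one_mul, mul_one]
    calc 1 + Y + (Y + Y * Y) = 1 + (Y + Y) + Y * Y := by abel
      _ = 1 + Y * Y := by rw [h2, add_zero]
  have hNap : ∀ z, N z = 0 ∨ N z = v := fun z => by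
    rw [hN, LinearMap.add_apply, Module.End.one_apply]
    rcases hdv z with h1 | h1
    · exact Or.inl (by rw [h1, add_self_eq_zero'])
    · exact Or.inr (by rw [h1, add_comm, add_add_self])
  have hMap : ∀ z, M z = 0 ∨ M z = w := fun z => by
    rw [hM, LinearMap.add_apply, Module.End.one_apply]
    rcases hew z with h1 | h1
    · exact Or.inl (by rw [h1, add_self_eq_zero'])
    · exact Or.inr (by rw [h1, add_comm, add_add_self])
  have comp0 : ∀ (P Q : Module.End (ZMod 2) V) (u : V), (∀ z, Q z = 0 ∨ Q z = u) → P u = 0 → P * Q = 0 :=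
    fun P Q u hQ hP => LinearMap.ext fun z => by
      rcases hQ z with h | h <;> simp [h, hP]
  have hNN : N * N = 0 := comp0 N N v hNap (by
    rw [hN, LinearMap.add_apply, Module.End.one_apply, apply_dir ρ hdv, add_self_eq_zero'])
  have hMM : M * M = 0 := comp0 M M w hMap (by
    rw [hM, LinearMap.add_apply, Module.End.one_apply, apply_dir ρ hew, add_self_eq_zero'])
  have hY : ρ x = 1 + (N + M + N * M) := by
    have ed : ρ d = 1 + N := by rw [hN, add_comm (ρ d) 1, ← add_assoc, h2, zero_add]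
    have ee : ρ e = 1 + M := by rw [hM, add_comm (ρ e) 1, ← add_assoc, h2, zero_add]
    rw [hx, map_mul, ed, ee]; noncomm_ring
  have hx4 : (N + M + N * M) * (N + M + N * M) * ((N + M + N * M) * (N + M + N * M)) = 0 → False :=
    fun h => kill (by rw [show (4 : ℕ) = 2 * 2 by norm_num, pow_mul, pow_two, pow_two, hY, hsq, hsq, h, add_zero])
  have hNN' : ∀ c, N * (N * c) = 0 := fun c => by rw [← mul_assoc, hNN, zero_mul]
  have hMM' : ∀ c, M * (M * c) = 0 := fun c => by rw [← mul_assoc, hMM, zero_mul]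
  have hev : ρ e v = v + w := by
    rcases hew v with h1 | h1
    · exfalso
      have hMN : M * N = 0 := comp0 M N v hNap (by
        rw [hM, LinearMap.add_apply, Module.End.one_apply, h1, add_self_eq_zero'])
      have hMN' : ∀ c, M * (N * c) = 0 := fun c => by rw [← mul_assoc, hMN, zero_mul]
      apply hx4
      simp [mul_add, add_mul, mul_assoc, hNN, hMM, hMN, hNN', hMM', hMN']
    · exact h1
  have hdw : ρ d w = w + v := by
    rcases hdv w with h1 | h1
    · exfalso
      have hNM : N * M = 0 := comp0 N M w hMap (by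
        rw [hN, LinearMap.add_apply, Module.End.one_apply, h1, add_self_eq_zero'])
      have hNM' : ∀ c, N * (M * c) = 0 := fun c => by rw [← mul_assoc, hNM, zero_mul]
      apply hx4
      simp [mul_add, add_mul, mul_assoc, hNN, hMM, hNM, hNN', hMM', hNM']
    · exact h1
  refine ⟨v, w, hx, hdv, hew, hev, hdw, hv, hw, fun h => hw ?_⟩
  have h1 := apply_dir ρ hdv
  rw [h, hdw, add_eq_left] at h1
  rw [← h, h1]

variable {ρ} {x d e : X} {v w : V}

theorem PairData.apply_v (P : PairData ρ x d e v w) : ρ x v = w := by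
  rw [P.hx, apply_mul_apply, P.hev, map_add, apply_dir ρ P.hd, P.hdw, add_comm w v, add_add_self]

theorem PairData.apply_w (P : PairData ρ x d e v w) : ρ x w = v + w := by
  rw [P.hx, apply_mul_apply, apply_dir ρ P.he, P.hdw, add_comm]

theorem PairData.add_ne (P : PairData ρ x d e v w) : v + w ≠ 0 := fun h => P.hvw (by
  rw [← add_zero v, ← h, add_add_self])

theorem PairData.v_mem (P : PairData ρ x d e v w) : v ∈ supp ρ x :=
  ⟨w, show ρ x w - w = v by rw [P.apply_w, add_sub_cancel_right]⟩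

theorem PairData.w_mem (P : PairData ρ x d e v w) : w ∈ supp ρ x := by
  refine ⟨v + w, ?_⟩
  show ρ x (v + w) - (v + w) = w
  rw [map_add, P.apply_v, P.apply_w, add_comm w (v + w), add_sub_cancel_left]

/-- Every vector is a sum of one in `span {v, w}` and one fixed by the pair. -/
theorem PairData.decomp (P : PairData ρ x d e v w) (z : V) :
    ∃ u : V, (u = 0 ∨ u = v ∨ u = w ∨ u = v + w) ∧ ρ d (z + u) = z + u ∧ ρ e (z + u) = z + u := by
  rcases P.hd z with h1 | h1 <;> rcases P.he z with h2 | h2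
  · exact ⟨0, Or.inl rfl, by rw [add_zero, h1], by rw [add_zero, h2]⟩
  · refine ⟨v, Or.inr (Or.inl rfl), by rw [map_add, h1, apply_dir ρ P.hd], ?_⟩
    rw [map_add, h2, P.hev, add_comm v w, add_assoc, add_add_self]
  · refine ⟨w, Or.inr (Or.inr (Or.inl rfl)), ?_, by rw [map_add, h2, apply_dir ρ P.he]⟩
    rw [map_add, h1, P.hdw, add_comm w v, add_assoc, add_add_self]
  · refine ⟨v + w, Or.inr (Or.inr (Or.inr rfl)), ?_, ?_⟩
    · rw [map_add, map_add, h1, apply_dir ρ P.hd, P.hdw, add_comm w v, add_assoc, add_add_self]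
    · rw [map_add, map_add, h2, P.hev, apply_dir ρ P.he, add_assoc v w w, add_self_eq_zero', add_zero,
        add_assoc, add_comm w v]

theorem PairData.apply_decomp (P : PairData ρ x d e v w) {z u : V} (hd : ρ d (z + u) = z + u)
    (he : ρ e (z + u) = z + u) : ρ x (z + u) = z + u := by
  rw [P.hx, apply_mul_apply, he, hd]

theorem PairData.mem_iff (P : PairData ρ x d e v w) {u : V} :
    u ∈ supp ρ x ↔ u = 0 ∨ u = v ∨ u = w ∨ u = v + w := by
  constructor
  · rintro ⟨z, rfl⟩
    obtain ⟨u, hu, hd, he⟩ := P.decomp z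
    have h := P.apply_decomp hd he
    show ρ x z - z = 0 ∨ ρ x z - z = v ∨ ρ x z - z = w ∨ ρ x z - z = v + w
    rw [map_add] at h
    have : ρ x z - z = u - ρ x u := by rw [sub_eq_sub_iff_add_eq_add, h, add_comm]
    rw [this]
    rcases hu with rfl | rfl | rfl | rfl
    · simp
    · rw [P.apply_v, ZModModule.sub_eq_add]; simp
    · rw [P.apply_w, ZModModule.sub_eq_add, add_comm v u, add_add_self]; simp
    · rw [map_add, P.apply_v, P.apply_w, ZModModule.sub_eq_add, add_comm w (v + w), add_assoc v w w,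
        add_self_eq_zero', add_zero, add_comm (v + w) v, add_add_self]; simp
  · rintro (rfl | rfl | rfl | rfl)
    · exact zero_mem _
    · exact P.v_mem
    · exact P.w_mem
    · exact add_mem P.v_mem P.w_mem

/-- `x` moves every nonzero vector of its support. -/
theorem PairData.eq_zero_of_fixed (P : PairData ρ x d e v w) {u : V} (hu : u ∈ supp ρ x) (h : ρ x u = u) :
    u = 0 := by
  rcases P.mem_iff.1 hu with he | he | he | he <;> rw [he] at h ⊢
  · rw [P.apply_v] at h; exact absurd h.symm P.hvw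
  · rw [P.apply_w, add_eq_right] at h; exact absurd h P.hv
  · rw [map_add, P.apply_v, P.apply_w, add_comm v w, add_add_self, right_eq_add] at h
    exact absurd h P.hw

theorem PairData.cube (P : PairData ρ x d e v w) : ρ x ^ 3 = 1 := by
  have e1 : ρ x (v + w) = v := by rw [map_add, P.apply_v, P.apply_w, add_comm v w, add_add_self]
  apply LinearMap.ext; intro z
  show ρ x (ρ x (ρ x z)) = z
  obtain ⟨u, hu, hd, he⟩ := P.decomp z
  have h := P.apply_decomp hd he
  have hu3 : ρ x (ρ x (ρ x u)) = u := by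
    rcases hu with rfl | rfl | rfl | rfl
    · simp
    · rw [P.apply_v, P.apply_w, e1]
    · rw [P.apply_w, e1, P.apply_v]
    · rw [e1, P.apply_v, P.apply_w]
  have h3 : ρ x (ρ x (ρ x (z + u))) = z + u := by rw [h, h, h]
  rw [map_add, map_add, map_add, hu3] at h3
  exact add_right_cancel h3

/-- Two distinct nonzero vectors span the support. -/
theorem PairData.supp_le (P : PairData ρ x d e v w) {S : Submodule (ZMod 2) V} {a b : V}
    (ha : a ∈ supp ρ x) (hb : b ∈ supp ρ x) (ha0 : a ≠ 0) (hb0 : b ≠ 0) (hab : a ≠ b)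
    (haS : a ∈ S) (hbS : b ∈ S) : supp ρ x ≤ S := by
  have h : v ∈ S ∧ w ∈ S := by
    rcases P.mem_iff.1 ha with h | h | h | h <;> rcases P.mem_iff.1 hb with h' | h' | h' | h' <;>
      rw [h] at ha0 hab haS <;> rw [h'] at hb0 hab hbS <;>
      first
        | exact absurd rfl ha0
        | exact absurd rfl hb0
        | exact absurd rfl hab
        | exact ⟨haS, hbS⟩
        | exact ⟨hbS, haS⟩
        | exact ⟨haS, by simpa [add_add_self] using S.add_mem haS hbS⟩
        | exact ⟨hbS, by simpa [add_add_self] using S.add_mem hbS haS⟩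
        | exact ⟨by simpa [add_comm v w, add_add_self] using S.add_mem haS hbS, haS⟩
        | exact ⟨by simpa [add_comm v w, add_add_self] using S.add_mem hbS haS, hbS⟩
  intro u hu
  rcases P.mem_iff.1 hu with rfl | rfl | rfl | rfl
  · exact S.zero_mem
  · exact h.1
  · exact h.2
  · exact S.add_mem h.1 h.2

variable {y d' e' : X} {v' w' : V}

/-- Commuting pairs have equal or disjoint supports. -/
theorem PairData.supp_eq_or_disjoint (P : PairData ρ x d e v w) (Q : PairData ρ y d' e' v' w')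
    (hc : ρ x * ρ y = ρ y * ρ x) :
    supp ρ x = supp ρ y ∨ ((∀ u ∈ supp ρ x, ρ y u = u) ∧ ∀ u ∈ supp ρ x, u ∈ supp ρ y → u = 0) := by
  have hcz : ∀ z, ρ x (ρ y z) = ρ y (ρ x z) := fun z => LinearMap.congr_fun hc z
  have hinv : ∀ u ∈ supp ρ x, ρ y u ∈ supp ρ x := by
    rintro _ ⟨z, rfl⟩
    exact ⟨ρ y z, show ρ x (ρ y z) - ρ y z = ρ y (ρ x z - z) by rw [map_sub, hcz]⟩
  by_cases hfix : ∀ u ∈ supp ρ x, ρ y u = u
  · exact Or.inr ⟨hfix, fun u hu hu' => Q.eq_zero_of_fixed hu' (hfix u hu)⟩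
  left
  have hinj : ∀ u ∈ supp ρ x, ρ y u = u → u = 0 := by
    intro u hu h
    by_contra hu0
    apply hfix
    -- the orbit of `u` under `x` is the set of nonzero vectors of the support
    have h1 : ρ y (ρ x u) = ρ x u := by rw [← hcz, h]
    have hne : ρ x u ≠ u := fun h2 => hu0 (P.eq_zero_of_fixed hu h2)
    have hxu : ρ x u ∈ supp ρ x := by
      obtain ⟨z, rfl⟩ := hu
      exact ⟨ρ x z, show ρ x (ρ x z) - ρ x z = ρ x (ρ x z - z) by rw [map_sub]⟩
    have hxu0 : ρ x u ≠ 0 := fun h2 => hu0 (apply_injective ρ x (h2.trans (map_zero _).symm))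
    intro u' hu'
    exact P.supp_le (S := LinearMap.eqLocus (ρ y) 1) hu hxu hu0 hxu0 hne.symm h h1 hu'
  -- images of `v` and `w` under `y - 1`
  have hmem : ∀ u ∈ supp ρ x, ρ y u - u ∈ supp ρ x ∧ ρ y u - u ∈ supp ρ y := fun u hu =>
    ⟨sub_mem (hinv u hu) hu, ⟨u, rfl⟩⟩
  obtain ⟨h1, h1'⟩ := hmem v P.v_mem
  obtain ⟨h2, h2'⟩ := hmem w P.w_mem
  have n1 : ρ y v - v ≠ 0 := fun h => P.hv (hinj v P.v_mem (sub_eq_zero.1 h))
  have n2 : ρ y w - w ≠ 0 := fun h => P.hw (hinj w P.w_mem (sub_eq_zero.1 h))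
  have n3 : ρ y v - v ≠ ρ y w - w := fun h => P.hvw (sub_eq_zero.1 (hinj _ (sub_mem P.v_mem P.w_mem) (by
    rw [map_sub]
    rw [sub_eq_sub_iff_sub_eq_sub] at h
    exact h)))
  exact le_antisymm (P.supp_le h1 h2 n1 n2 n3 h1' h2') (Q.supp_le h1' h2' n1 n2 n3 h1 h2)

/-- Pairs generating a 3-group commute. -/
theorem PairData.commute (P : PairData ρ x d e v w) (Q : PairData ρ y d' e' v' w') [Finite X]
    (h3 : IsPGroup 3 (Subgroup.closure ({x, y} : Set X))) : ρ x * ρ y = ρ y * ρ x := by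
  classical
  set T : Finset V := {v, w, v', w'} with hT
  set U : Submodule (ZMod 2) V := Submodule.span (ZMod 2) (T : Set V) with hU
  haveI : FiniteDimensional (ZMod 2) U := FiniteDimensional.span_finset (ZMod 2) T
  have hfr : Module.finrank (ZMod 2) U ≤ 4 := (finrank_span_finset_le_card T).trans Finset.card_le_four
  have hmemU : v ∈ U ∧ w ∈ U ∧ v' ∈ U ∧ w' ∈ U := by
    refine ⟨?_, ?_, ?_, ?_⟩ <;> exact Submodule.subset_span (by simp [hT])
  have hxU : supp ρ x ≤ U := P.supp_le P.v_mem P.w_mem P.hv P.hw P.hvw hmemU.1 hmemU.2.1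
  have hyU : supp ρ y ≤ U := Q.supp_le Q.v_mem Q.w_mem Q.hv Q.hw Q.hvw hmemU.2.2.1 hmemU.2.2.2
  set Q0 := Subgroup.closure ({x, y} : Set X) with hQ0
  have hdiff : ∀ q ∈ Q0, ∀ z, ρ q z - z ∈ U := by
    intro q hq
    induction hq using Subgroup.closure_induction with
    | mem a ha =>
      intro z
      rcases ha with rfl | rfl
      · exact hxU ⟨z, rfl⟩
      · exact hyU ⟨z, rfl⟩
    | one => intro z; simp
    | mul a b _ _ iha ihb =>
      intro z
      rw [apply_mul_apply, ← sub_add_sub_cancel _ (ρ b z) z]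
      exact U.add_mem (iha _) (ihb _)
    | inv a _ iha =>
      intro z
      have := U.neg_mem (iha (ρ a⁻¹ z))
      rwa [apply_self_inv, neg_sub] at this
  have hinvU : ∀ q ∈ Q0, ∀ u ∈ U, ρ q u ∈ U := fun q hq u hu => by
    have := U.add_mem (hdiff q hq u) hu
    rwa [sub_add_cancel] at this
  let f : Q0 →* Module.End (ZMod 2) U :=
    { toFun := fun q => (ρ (q : X)).restrict (hinvU q q.2)
      map_one' := LinearMap.ext fun u => Subtype.ext (by
        show ρ ((1 : Q0) : X) (u : V) = (u : V)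
        rw [OneMemClass.coe_one, map_one]; rfl)
      map_mul' := fun a b => LinearMap.ext fun u => Subtype.ext (by
        show ρ ((a * b : Q0) : X) (u : V) = ρ (a : X) (ρ (b : X) (u : V))
        rw [Subgroup.coe_mul, apply_mul_apply]) }
  let b := Module.finBasis (ZMod 2) U
  let g : Q0 →* GL (Fin (Module.finrank (ZMod 2) U)) (ZMod 2) :=
    (Units.map (LinearMap.toMatrixAlgEquiv b).toMonoidHom).comp f.toHomUnits
  have hg3 : IsPGroup 3 g.range := h3.of_surjective g.rangeRestrict g.rangeRestrict_surjective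
  obtain ⟨k, hk⟩ := IsPGroup.iff_card.1 hg3
  have hdvd : 3 ^ k ∣ ∏ i : Fin (Module.finrank (ZMod 2) U),
      (2 ^ Module.finrank (ZMod 2) U - 2 ^ (i : ℕ)) := by
    have := Subgroup.card_subgroup_dvd_card g.range
    rwa [hk, CfsgLib.Linear.card_GL_fin, ZMod.card] at this
  have hk2 : k ≤ 2 := by
    by_contra hcon
    have h27 : 3 ^ 3 ∣ ∏ i : Fin (Module.finrank (ZMod 2) U),
        (2 ^ Module.finrank (ZMod 2) U - 2 ^ (i : ℕ)) := (pow_dvd_pow 3 (by omega)).trans hdvd
    generalize Module.finrank (ZMod 2) U = m at hfr h27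
    interval_cases m <;> simp [Fin.prod_univ_succ] at h27
  have hcomm : ∀ a b : g.range, a * b = b * a := by
    haveI := Fact.mk Nat.prime_three
    interval_cases k
    · haveI : Subsingleton g.range := (Nat.card_eq_one_iff_unique.1 (by rw [hk]; norm_num)).1
      exact fun a b => Subsingleton.elim _ _
    · haveI : IsCyclic g.range := isCyclic_of_prime_card (p := 3) (by rw [hk, pow_one])
      letI := IsCyclic.commGroup (α := g.range)
      exact fun a b => mul_comm a b
    · exact IsPGroup.commutative_of_card_eq_prime_sq hk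
  have hxQ : x ∈ Q0 := Subgroup.subset_closure (Set.mem_insert _ _)
  have hyQ : y ∈ Q0 := Subgroup.subset_closure (Set.mem_insert_of_mem _ rfl)
  set q : Q0 := (⟨y, hyQ⟩ * ⟨x, hxQ⟩)⁻¹ * (⟨x, hxQ⟩ * ⟨y, hyQ⟩) with hq
  have hgq : g q = 1 := by
    rw [hq, map_mul, map_inv, map_mul, map_mul, inv_mul_eq_one]
    exact congrArg Subtype.val (hcomm ⟨g ⟨y, hyQ⟩, _, rfl⟩ ⟨g ⟨x, hxQ⟩, _, rfl⟩)
  have hfq : ∀ u ∈ U, ρ (q : X) u = u := by
    intro u hu
    have h1 : LinearMap.toMatrixAlgEquiv b (f q) = LinearMap.toMatrixAlgEquiv b 1 := by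
      rw [map_one]; exact congrArg Units.val hgq
    exact congrArg Subtype.val (LinearMap.congr_fun ((LinearMap.toMatrixAlgEquiv b).injective h1) ⟨u, hu⟩)
  have hsq : ρ (q : X) ^ 2 = 1 := by
    apply LinearMap.ext; intro z
    rw [pow_two]
    show ρ (q : X) (ρ (q : X) z) = z
    have h1 := hfq _ (hdiff q q.2 z)
    rw [map_sub, sub_eq_sub_iff_add_eq_add] at h1
    have h2 : ρ (q : X) (ρ (q : X) z) + z = ρ (q : X) z + ρ (q : X) z := h1
    rw [add_self_eq_zero', ← ZModModule.sub_eq_add, sub_eq_zero] at h2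
    exact h2
  obtain ⟨m, hm⟩ := h3 q
  have hq1 : ρ (q : X) = 1 := by
    have h1 : ρ (q : X) ^ 3 ^ m = 1 := by rw [← map_pow, ← Subgroup.coe_pow, hm, OneMemClass.coe_one, map_one]
    obtain ⟨j, hj⟩ := Odd.pow (n := m) (show Odd 3 by decide)
    rwa [hj, pow_succ, pow_mul, hsq, one_pow, one_mul] at h1
  rw [← map_mul, ← map_mul, show x * y = y * x * (q : X) by
    rw [hq]; simp; group, map_mul _ (y * x), hq1, mul_one]

end CfsgLib.FailFact
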